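import Mathlib
import Groth.Prelude.Def_W4c6gradedringsgwSect
import Groth.Agent.Lib.Helper9.FFExt.Expansion1
import Groth.Agent.Lib.Helper4.FF.Gaps3
import Groth.Agent.Lib.Helper4.FF.ProjMap2

/-! Section ring of a point divisor: the leading-coefficient homomorphism (helper9). -/

namespace Groth.Agent.Helper9.GrSect

open FunFld W4c6gradedringsgw Polynomial WithZero Groth.Agent.Lib.Helper4.FF Groth.Agent.Helper9.FFExt

variable {k K : Type*} [Field k] [Field K] [Algebra k K] {P : Place k K} (R : RatData P)

theorem smul_single_one (n : ℤ) :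
    n • (Finsupp.single P 1 : Divisor k K) = Finsupp.single P n := by
  rw [Finsupp.smul_single, smul_eq_mul, mul_one]

theorem val_le_of_mem {n : ℤ} {f : K} (hf : f ∈ L (n • (Finsupp.single P 1 : Divisor k K))) :
    P.1 f ≤ exp n := by
  have := hf P
  rwa [smul_single_one, Finsupp.single_eq_same] at this

/-- the coefficient of `t⁻ⁿ` -/
noncomputable def lam (n : ℕ) (f : K) : k := R.rho (R.t ^ n * f)

theorem val_t_pow (n : ℕ) : P.1 (R.t ^ n) = exp (-(n : ℤ)) := by
  rw [map_pow, R.ht, ← exp_nsmul]
  simp

theorem val_t_pow_mul_le {n : ℕ} {f : K} (hf : P.1 f ≤ exp (n : ℤ)) : P.1 (R.t ^ n * f) ≤ 1 := by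
  rw [map_mul, val_t_pow]
  calc exp (-(n : ℤ)) * P.1 f ≤ exp (-(n : ℤ)) * exp (n : ℤ) := mul_le_mul' le_rfl hf
    _ = 1 := by rw [← exp_add]; simp

theorem lam_zero_right (n : ℕ) : lam R n 0 = 0 := by
  unfold lam
  rw [mul_zero]
  exact R.rho_of_lt (by rw [map_zero]; exact zero_lt_one)

theorem lam_add {n : ℕ} {f g : K} (hf : P.1 f ≤ exp (n : ℤ)) (hg : P.1 g ≤ exp (n : ℤ)) :
    lam R n (f + g) = lam R n f + lam R n g := by
  unfold lam
  rw [mul_add]
  exact R.rho_add (val_t_pow_mul_le R hf) (val_t_pow_mul_le R hg)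

theorem lam_mul {i j : ℕ} {f g : K} (hf : P.1 f ≤ exp (i : ℤ)) (hg : P.1 g ≤ exp (j : ℤ)) :
    lam R (i + j) (f * g) = lam R i f * lam R j g := by
  unfold lam
  have : R.t ^ (i + j) * (f * g) = (R.t ^ i * f) * (R.t ^ j * g) := by ring
  rw [this]
  exact R.rho_mul (val_t_pow_mul_le R hf) (val_t_pow_mul_le R hg)

theorem lam_algebraMap (c : k) : lam R 0 (algebraMap k K c) = c := by
  unfold lam
  rw [pow_zero, one_mul]
  exact R.rho_algebraMap c

theorem lam_sum {n : ℕ} {ι : Type*} (s : Finset ι) (f : ι → K)
    (hf : ∀ i ∈ s, P.1 (f i) ≤ exp (n : ℤ)) :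
    lam R n (∑ i ∈ s, f i) = ∑ i ∈ s, lam R n (f i) := by
  classical
  induction s using Finset.induction_on with
  | empty => simp [lam_zero_right]
  | insert a s ha ih =>
    rw [Finset.sum_insert ha, Finset.sum_insert ha,
      lam_add R (hf a (Finset.mem_insert_self a s))
        (Valuation.map_sum_le _ fun i hi => hf i (Finset.mem_insert_of_mem hi)),
      ih fun i hi => hf i (Finset.mem_insert_of_mem hi)]

theorem lam_eq_zero_iff {n : ℕ} {f : K} (hf : P.1 f ≤ exp (n : ℤ)) :
    lam R n f = 0 ↔ P.1 f ≤ exp ((n : ℤ) - 1) := by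
  unfold lam
  have h1 := val_t_pow_mul_le R hf
  have h2 : P.1 (R.t ^ n * f) < 1 ↔ P.1 f ≤ exp ((n : ℤ) - 1) := by
    rw [← lt_exp_iff_le_exp_sub_one, map_mul, val_t_pow]
    constructor
    · intro h
      by_contra hcon
      push Not at hcon
      have : exp (-(n : ℤ)) * exp (n : ℤ) ≤ exp (-(n : ℤ)) * P.1 f := mul_le_mul' le_rfl hcon
      rw [← exp_add] at this
      simp only [neg_add_cancel, exp_zero] at this
      exact absurd h (not_lt.mpr this)
    · intro h
      calc exp (-(n : ℤ)) * P.1 f < exp (-(n : ℤ)) * exp (n : ℤ) := by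
            exact mul_lt_mul_of_pos_left h (by exact exp_pos)
        _ = 1 := by rw [← exp_add]; simp
  rw [← h2]
  constructor
  · intro h0
    have := R.rho_spec h1
    rwa [h0, map_zero, sub_zero] at this
  · exact R.rho_of_lt

section Psi

/-- the leading-coefficient map on polynomials -/
noncomputable def psiFun (p : K[X]) : k[X] :=
  ∑ n ∈ p.support, monomial n (lam R n (p.coeff n))

theorem coeff_psiFun (p : K[X]) (m : ℕ) : (psiFun R p).coeff m = lam R m (p.coeff m) := by
  unfold psiFun
  rw [finsetSum_coeff]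
  simp only [coeff_monomial]
  rw [Finset.sum_ite_eq']
  split_ifs with h
  · rfl
  · rw [notMem_support_iff.mp h, lam_zero_right]

theorem coeff_val_le (p : ↥(sectRing (Finsupp.single P 1 : Divisor k K))) (n : ℕ) :
    P.1 ((p : K[X]).coeff n) ≤ exp (n : ℤ) :=
  val_le_of_mem (p.2 n)

/-- the leading-coefficient homomorphism `R_P → k[X]` -/
noncomputable def psi : ↥(sectRing (Finsupp.single P 1 : Divisor k K)) →ₐ[k] k[X] where
  toFun p := psiFun R p.1
  map_one' := by
    ext m
    rw [coeff_psiFun]
    change lam R m ((1 : K[X]).coeff m) = _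
    rw [coeff_one, coeff_one]
    split_ifs with h
    · subst h
      have := lam_algebraMap R (1 : k)
      rwa [map_one] at this
    · exact lam_zero_right R m
  map_mul' p q := by
    ext m
    rw [coeff_psiFun]
    change lam R m ((p.1 * q.1).coeff m) = _
    rw [coeff_mul, coeff_mul, lam_sum]
    · refine Finset.sum_congr rfl fun x hx => ?_
      have hm := Finset.HasAntidiagonal.mem_antidiagonal.mp hx
      rw [coeff_psiFun, coeff_psiFun, ← hm]
      exact lam_mul R (coeff_val_le p x.1) (coeff_val_le q x.2)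
    · intro x hx
      have hm := Finset.HasAntidiagonal.mem_antidiagonal.mp hx
      rw [map_mul, ← hm]
      push_cast
      rw [exp_add]
      exact mul_le_mul' (coeff_val_le p x.1) (coeff_val_le q x.2)
  map_zero' := by
    ext m
    rw [coeff_psiFun]
    change lam R m ((0 : K[X]).coeff m) = _
    rw [coeff_zero, coeff_zero]
    exact lam_zero_right R m
  map_add' p q := by
    ext m
    rw [coeff_psiFun, coeff_add, coeff_psiFun, coeff_psiFun]
    change lam R m ((p.1 + q.1).coeff m) = _
    rw [coeff_add]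
    exact lam_add R (coeff_val_le p m) (coeff_val_le q m)
  commutes' c := by
    ext m
    rw [coeff_psiFun]
    change lam R m ((algebraMap k K[X] c).coeff m) = _
    rw [Polynomial.algebraMap_apply, Polynomial.algebraMap_apply, coeff_C, coeff_C]
    split_ifs with h
    · subst h
      exact lam_algebraMap R c
    · exact lam_zero_right R m

theorem coeff_psi (p : ↥(sectRing (Finsupp.single P 1 : Divisor k K))) (m : ℕ) :
    (psi R p).coeff m = lam R m ((p : K[X]).coeff m) := coeff_psiFun R p.1 m

end Psi

section Ker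

theorem psi_eq_zero_iff (p : ↥(sectRing (Finsupp.single P 1 : Divisor k K))) :
    psi R p = 0 ↔ ∀ n : ℕ, P.1 ((p : K[X]).coeff n) ≤ exp ((n : ℤ) - 1) := by
  constructor
  · intro h n
    rw [← lam_eq_zero_iff R (coeff_val_le p n), ← coeff_psi, h, coeff_zero]
  · intro h
    ext n
    rw [coeff_psi, coeff_zero, lam_eq_zero_iff R (coeff_val_le p n)]
    exact h n

theorem mem_L_pred {n : ℕ} {f : K} (hf : f ∈ L (((n + 1 : ℕ) : ℤ) • (Finsupp.single P 1 : Divisor k K)))
    (hP : P.1 f ≤ exp (n : ℤ)) : f ∈ L ((n : ℤ) • (Finsupp.single P 1 : Divisor k K)) := by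
  classical
  intro Q
  have h1 := hf Q
  rw [smul_single_one] at h1 ⊢
  by_cases hQ : Q = P
  · subst hQ
    rw [Finsupp.single_eq_same]
    exact hP
  · rw [Finsupp.single_eq_of_ne hQ] at h1 ⊢
    exact h1

theorem ker_psi (hK : IsFunctionField k K) (t : ↥(sectRing (Finsupp.single P 1 : Divisor k K)))
    (c : k) (hc : c ≠ 0) (ht : (t : K[X]) = C (algebraMap k K c) * X) :
    RingHom.ker (psi R) = Ideal.span {t} := by
  classical
  apply le_antisymm
  · intro p hp
    rw [RingHom.mem_ker, psi_eq_zero_iff] at hp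
    -- the constant coefficient vanishes
    have h0 : (p : K[X]).coeff 0 = 0 := by
      have hmem : (p : K[X]).coeff 0 ∈ L (Finsupp.single P (-1 : ℤ) : Divisor k K) := by
        intro Q
        by_cases hQ : Q = P
        · subst hQ
          rw [Finsupp.single_eq_same]
          have := hp 0
          simpa using this
        · rw [Finsupp.single_eq_of_ne hQ]
          have := p.2 0 Q
          rw [smul_single_one, Finsupp.single_eq_of_ne hQ] at this
          exact this
      have hbot : L (Finsupp.single P (-1 : ℤ) : Divisor k K) = ⊥ := by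
        apply L_eq_bot_of_deg_neg hK
        rw [Divisor.deg_single]
        have := Place.deg_pos hK P
        have h2 : (0 : ℤ) < (P.deg : ℤ) := by exact_mod_cast this
        linarith
      rw [hbot, Submodule.mem_bot] at hmem
      exact hmem
    -- the quotient
    have hq : C (algebraMap k K c⁻¹) * divX (p : K[X]) ∈
        sectRing (Finsupp.single P 1 : Divisor k K) := by
      intro n
      rw [coeff_C_mul, coeff_divX, ← Algebra.smul_def]
      apply Submodule.smul_mem
      exact mem_L_pred (p.2 (n + 1)) (by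
        have := hp (n + 1)
        push_cast at this
        rwa [add_sub_cancel_right] at this)
    rw [Ideal.mem_span_singleton]
    refine ⟨⟨_, hq⟩, ?_⟩
    apply Subtype.ext
    change (p : K[X]) = (t : K[X]) * (C (algebraMap k K c⁻¹) * divX (p : K[X]))
    rw [ht]
    have h1 := divX_mul_X_add (p : K[X])
    rw [h0, map_zero, add_zero] at h1
    have h2 : C (algebraMap k K c) * X * (C (algebraMap k K c⁻¹) * divX (p : K[X])) =
        C (algebraMap k K c * algebraMap k K c⁻¹) * (divX (p : K[X]) * X) := by
      rw [C_mul]; ring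
    rw [h2, ← map_mul, mul_inv_cancel₀ hc, map_one, map_one, one_mul, h1]
  · rw [Ideal.span_le, Set.singleton_subset_iff]
    change t ∈ RingHom.ker (psi R)
    rw [RingHom.mem_ker, psi_eq_zero_iff]
    intro n
    rw [ht, coeff_C_mul, coeff_X]
    split_ifs with h
    · rw [mul_one, ← h]
      simp only [Nat.cast_one, sub_self, exp_zero]
      exact Place.val_k_le P c
    · rw [mul_zero, map_zero]
      exact zero_le

end Ker

section PoleOrders

theorem L_pred_le (n : ℕ) :
    L (((n : ℤ) - 1) • (Finsupp.single P 1 : Divisor k K)) ≤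
      L ((n : ℤ) • (Finsupp.single P 1 : Divisor k K)) := by
  rw [smul_single_one, smul_single_one]
  exact L_single_mono P (by omega)

theorem mem_L_pred_iff {n : ℕ} {f : K}
    (hf : f ∈ L ((n : ℤ) • (Finsupp.single P 1 : Divisor k K))) :
    f ∈ L (((n : ℤ) - 1) • (Finsupp.single P 1 : Divisor k K)) ↔ P.1 f ≤ exp ((n : ℤ) - 1) := by
  classical
  constructor
  · intro h
    exact val_le_of_mem h
  · intro h Q
    have h1 := hf Q
    rw [smul_single_one] at h1 ⊢
    by_cases hQ : Q = P
    · subst hQ
      rw [Finsupp.single_eq_same]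
      exact h
    · rw [Finsupp.single_eq_of_ne hQ] at h1 ⊢
      exact h1

theorem mem_poleOrders_iff (hK : IsFunctionField k K) (hP : P.deg = 1) (n : ℕ) :
    n ∈ poleOrders P ↔ ∃ f : K, f ∈ L ((n : ℤ) • (Finsupp.single P 1 : Divisor k K)) ∧
      lam R n f ≠ 0 := by
  have hfin1 := L_finite hK (((n : ℤ) - 1) • (Finsupp.single P 1 : Divisor k K))
  have hfin2 := L_finite hK ((n : ℤ) • (Finsupp.single P 1 : Divisor k K))
  have hle : (ell ((n : ℤ) • (Finsupp.single P 1 : Divisor k K)) : ℤ) ≤
      ell (((n : ℤ) - 1) • (Finsupp.single P 1 : Divisor k K)) + 1 := by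
    have h1 : ((n : ℤ) - 1) • (Finsupp.single P 1 : Divisor k K) ≤
        (n : ℤ) • (Finsupp.single P 1 : Divisor k K) := by
      rw [smul_single_one, smul_single_one]
      exact single_le_single P (by omega)
    have := ell_sub_le hK h1
    rw [smul_single_one, smul_single_one, Divisor.deg_single, Divisor.deg_single, hP] at this
    rw [smul_single_one, smul_single_one]
    push_cast at this
    linarith
  constructor
  · intro hn
    have hn' : ell ((n : ℤ) • (Finsupp.single P 1 : Divisor k K)) =
        ell (((n : ℤ) - 1) • (Finsupp.single P 1 : Divisor k K)) + 1 := hn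
    have hlt : L (((n : ℤ) - 1) • (Finsupp.single P 1 : Divisor k K)) <
        L ((n : ℤ) • (Finsupp.single P 1 : Divisor k K)) := by
      refine lt_of_le_of_ne (L_pred_le n) fun heq => ?_
      unfold FunFld.ell at hn'
      rw [heq] at hn'
      omega
    obtain ⟨f, hf, hf'⟩ := SetLike.exists_of_lt hlt
    refine ⟨f, hf, fun h0 => hf' ?_⟩
    rw [lam_eq_zero_iff R (val_le_of_mem hf)] at h0
    exact (mem_L_pred_iff hf).mpr h0
  · rintro ⟨f, hf, hne⟩
    have hnot : f ∉ L (((n : ℤ) - 1) • (Finsupp.single P 1 : Divisor k K)) := by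
      intro h
      exact hne ((lam_eq_zero_iff R (val_le_of_mem hf)).mpr ((mem_L_pred_iff hf).mp h))
    have hlt : L (((n : ℤ) - 1) • (Finsupp.single P 1 : Divisor k K)) <
        L ((n : ℤ) • (Finsupp.single P 1 : Divisor k K)) :=
      lt_of_le_of_ne (L_pred_le n) fun heq => hnot (heq ▸ hf)
    have h2 := Submodule.finrank_lt_finrank_of_lt hlt
    change ell ((n : ℤ) • (Finsupp.single P 1 : Divisor k K)) =
        ell (((n : ℤ) - 1) • (Finsupp.single P 1 : Divisor k K)) + 1
    unfold FunFld.ell at hle ⊢
    omega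

theorem lam_smul {n : ℕ} {f : K} (c : k) (hf : P.1 f ≤ exp (n : ℤ)) :
    lam R n (c • f) = c * lam R n f := by
  have h1 := lam_mul R (i := 0) (j := n) (f := algebraMap k K c) (g := f)
    (by simpa using Place.val_k_le P c) hf
  rw [zero_add, lam_algebraMap, ← Algebra.smul_def] at h1
  exact h1

/-- a function with a pole of exact order `n` and leading coefficient `1` -/
theorem exists_monic (hK : IsFunctionField k K) (hP : P.deg = 1) {n : ℕ} (hn : n ∈ poleOrders P) :
    ∃ f : K, f ∈ L ((n : ℤ) • (Finsupp.single P 1 : Divisor k K)) ∧ lam R n f = 1 := by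
  obtain ⟨f, hf, hne⟩ := (mem_poleOrders_iff R hK hP n).mp hn
  refine ⟨(lam R n f)⁻¹ • f, Submodule.smul_mem _ _ hf, ?_⟩
  rw [lam_smul R _ (val_le_of_mem hf), inv_mul_cancel₀ hne]

end PoleOrders

section Range

/-- the monomial `f Tⁿ` as an element of the section ring -/
noncomputable def mono (n : ℕ) (f : K)
    (hf : f ∈ L ((n : ℤ) • (Finsupp.single P 1 : Divisor k K))) :
    ↥(sectRing (Finsupp.single P 1 : Divisor k K)) :=
  ⟨monomial n f, fun m => by
    rw [coeff_monomial]
    split_ifs with h
    · subst h; exact hf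
    · exact zero_mem _⟩

theorem psi_mono (n : ℕ) (f : K)
    (hf : f ∈ L ((n : ℤ) • (Finsupp.single P 1 : Divisor k K))) :
    psi R (mono n f hf) = monomial n (lam R n f) := by
  ext m
  rw [coeff_psi]
  change lam R m ((monomial n f : K[X]).coeff m) = _
  rw [coeff_monomial, coeff_monomial]
  split_ifs with h
  · subst h; rfl
  · exact lam_zero_right R m

variable (k) in
/-- the semigroup algebra inside `k[X]` -/
noncomputable def iota (M : AddSubmonoid ℕ) : AddMonoidAlgebra k M →ₐ[k] k[X] :=
  ((Polynomial.toFinsuppIsoAlg k).symm : AddMonoidAlgebra k ℕ →ₐ[k] k[X]).comp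
    (AddMonoidAlgebra.mapDomainAlgHom k k M.subtype)

theorem iota_single (M : AddSubmonoid ℕ) (m : M) (c : k) :
    iota k M (AddMonoidAlgebra.single m c) = monomial (m : ℕ) c := by
  unfold iota
  rw [AlgHom.comp_apply, AddMonoidAlgebra.mapDomainAlgHom_apply, AddMonoidAlgebra.mapDomain_single]
  change (⟨(AddMonoidAlgebra.single ((m : ℕ)) c)⟩ : k[X]) = _
  rw [Polynomial.ofFinsupp_single]

theorem iota_injective (M : AddSubmonoid ℕ) : Function.Injective (iota k M) := by
  unfold iota
  intro x y h
  have h1 := (Polynomial.toFinsuppIsoAlg k).symm.injective h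
  refine AddMonoidAlgebra.mapDomain_injective (R := k) (f := M.subtype) Subtype.coe_injective ?_
  exact h1

theorem range_psi (hK : IsFunctionField k K) (hP : P.deg = 1) :
    (psi R).range = (iota k (AddSubmonoid.closure (poleOrders P))).range := by
  apply le_antisymm
  · rintro _ ⟨p, rfl⟩
    change psi R p ∈ _
    rw [(psi R p).as_sum_support]
    refine Subalgebra.sum_mem _ fun n hn => ?_
    rw [mem_support_iff, coeff_psi] at hn
    have hmem : n ∈ poleOrders P := (mem_poleOrders_iff R hK hP n).mpr ⟨_, p.2 n, hn⟩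
    exact ⟨AddMonoidAlgebra.single ⟨n, AddSubmonoid.subset_closure hmem⟩ ((psi R p).coeff n),
      iota_single _ _ _⟩
  · rintro _ ⟨x, rfl⟩
    change iota k _ x ∈ _
    induction x using AddMonoidAlgebra.induction_linear with
    | zero => rw [map_zero]; exact Subalgebra.zero_mem _
    | add f g hf hg => rw [map_add]; exact Subalgebra.add_mem _ hf hg
    | single m c =>
      rw [iota_single]
      have key : ∀ n : ℕ, n ∈ AddSubmonoid.closure (poleOrders P) →
          (X ^ n : k[X]) ∈ (psi R).range := by
        intro n hn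
        induction hn using AddSubmonoid.closure_induction with
        | mem n hn =>
          obtain ⟨f, hf, hf1⟩ := exists_monic R hK hP hn
          refine ⟨mono n f hf, ?_⟩
          change psi R (mono n f hf) = X ^ n
          rw [psi_mono, hf1, monomial_one_right_eq_X_pow]
        | zero => rw [pow_zero]; exact Subalgebra.one_mem _
        | add a b _ _ ha hb => rw [pow_add]; exact Subalgebra.mul_mem _ ha hb
      rw [← C_mul_X_pow_eq_monomial, C_eq_algebraMap]
      exact Subalgebra.mul_mem _ (Subalgebra.algebraMap_mem _ c) (key _ m.2)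

end Range

end Groth.Agent.Helper9.GrSect
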