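import Mathlib
import Groth.Prelude.Def_W4c6gradedringsgwSect
import Groth.Agent.Lib.Helper9.GrSect.Basic

/-! Section ring of a point divisor: the embedding dimension (helper9). -/

namespace Groth.Agent.Helper9.GrSect

open FunFld W4c6gradedringsgw Polynomial WithZero Groth.Agent.Lib.Helper4.FF Groth.Agent.Helper9.FFExt

variable {k K : Type*} [Field k] [Field K] [Algebra k K] {P : Place k K} (R : RatData P)

section Semigroup

theorem mem_poleOrders_of_ge (hK : IsFunctionField k K) (hP : P.deg = 1) {n : ℕ}
    (hn : 2 * genus k K ≤ n) : n ∈ poleOrders P := by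
  change ell ((n : ℤ) • (Finsupp.single P 1 : Divisor k K)) =
    ell (((n : ℤ) - 1) • (Finsupp.single P 1 : Divisor k K)) + 1
  have h1 := ell_eq_of_deg_ge hK (D := (n : ℤ) • (Finsupp.single P 1 : Divisor k K)) (by
    rw [smul_single_one, Divisor.deg_single, hP]
    push_cast
    omega)
  have h2 := ell_eq_of_deg_ge hK (D := ((n : ℤ) - 1) • (Finsupp.single P 1 : Divisor k K)) (by
    rw [smul_single_one, Divisor.deg_single, hP]
    push_cast
    omega)
  rw [smul_single_one, Divisor.deg_single, hP] at h1 h2
  rw [smul_single_one, smul_single_one]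
  push_cast at h1 h2
  have : (ell (Finsupp.single P (n : ℤ) : Divisor k K) : ℤ) =
      ell (Finsupp.single P ((n : ℤ) - 1) : Divisor k K) + 1 := by linarith
  exact_mod_cast this

theorem minGens_subset (hK : IsFunctionField k K) (hP : P.deg = 1) (hg : 1 ≤ genus k K) :
    minGens (poleOrders P) ⊆ (Finset.range (4 * genus k K) : Set ℕ) := by
  intro n hn
  rw [Finset.coe_range, Set.mem_Iio]
  by_contra hge
  push Not at hge
  obtain ⟨-, -, hmin⟩ := hn
  have h1 : 2 * genus k K ∈ poleOrders P := mem_poleOrders_of_ge hK hP le_rfl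
  have h2 : n - 2 * genus k K ∈ poleOrders P := mem_poleOrders_of_ge hK hP (by omega)
  exact hmin _ h1 _ h2 (by omega) (by omega) (by omega)

theorem finite_minGens (hK : IsFunctionField k K) (hP : P.deg = 1) (hg : 1 ≤ genus k K) :
    (minGens (poleOrders P)).Finite :=
  (Finset.finite_toSet _).subset (minGens_subset hK hP hg)

end Semigroup

section Gen

variable (hK : IsFunctionField k K) (hP : P.deg = 1)

/-- chosen functions with leading coefficient one -/
noncomputable def fmon (n : ℕ) : K := by
  classical
  exact if h : n ∈ poleOrders P then (exists_monic R hK hP h).choose else 0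

theorem fmon_mem (n : ℕ) :
    fmon R hK hP n ∈ L ((n : ℤ) • (Finsupp.single P 1 : Divisor k K)) := by
  unfold fmon
  split_ifs with h
  · exact (exists_monic R hK hP h).choose_spec.1
  · exact zero_mem _

theorem lam_fmon {n : ℕ} (h : n ∈ poleOrders P) : lam R n (fmon R hK hP n) = 1 := by
  unfold fmon
  rw [dif_pos h]
  exact (exists_monic R hK hP h).choose_spec.2

theorem mono_add (n : ℕ) (f g : K) (hf hg) :
    mono (P := P) n (f + g) (add_mem hf hg) = mono n f hf + mono n g hg := by
  apply Subtype.ext
  change monomial n (f + g) = monomial n f + monomial n g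
  rw [map_add]

theorem mono_smul (n : ℕ) (c : k) (f : K) (hf) :
    mono (P := P) n (c • f) (Submodule.smul_mem _ c hf) = c • mono n f hf := by
  apply Subtype.ext
  change monomial n (c • f) = c • monomial n f
  rw [Polynomial.smul_monomial]

theorem mono_mul (a b : ℕ) (f g : K) (hf hg) (hfg) :
    mono (P := P) (a + b) (f * g) hfg = mono a f hf * mono b g hg := by
  apply Subtype.ext
  change monomial (a + b) (f * g) = monomial a f * monomial b g
  rw [monomial_mul_monomial]

theorem one_mem_L_one : (1 : K) ∈ L (((1 : ℕ) : ℤ) • (Finsupp.single P 1 : Divisor k K)) := by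
  rw [Nat.cast_one, one_smul]
  have h0 : (1 : K) ∈ L (0 : Divisor k K) := by
    have := algebraMap_mem_L_zero (k := k) (K := K) 1
    rwa [map_one] at this
  have hle : L (0 : Divisor k K) ≤ L (Finsupp.single P 1 : Divisor k K) := by
    rw [← Finsupp.single_zero P]
    exact L_single_mono P (by norm_num)
  exact hle h0

/-- the generator of degree one -/
noncomputable def tzero : ↥(sectRing (Finsupp.single P 1 : Divisor k K)) := mono 1 1 one_mem_L_one

/-- the generating set -/
noncomputable def gens : Set ↥(sectRing (Finsupp.single P 1 : Divisor k K)) :=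
  insert tzero ((fun n => mono n (fmon R hK hP n) (fmon_mem R hK hP n)) '' minGens (poleOrders P))

theorem mono_pred_mul_tzero {n : ℕ} {f : K}
    (hf : f ∈ L ((n : ℤ) • (Finsupp.single P 1 : Divisor k K))) :
    mono (n + 1) f (by
      have h := L_pred_le (P := P) (k := k) (n + 1)
      apply h
      convert hf using 2
      push_cast; ring_nf) = mono n f hf * tzero := by
  apply Subtype.ext
  change monomial (n + 1) f = monomial n f * monomial 1 1
  rw [monomial_mul_monomial, mul_one]

theorem mono_mem_span : ∀ n : ℕ, 1 ≤ n → ∀ (f : K)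
    (hf : f ∈ L ((n : ℤ) • (Finsupp.single P 1 : Divisor k K))),
    mono n f hf ∈ Ideal.span (gens R hK hP) := by
  intro n
  induction n using Nat.strong_induction_on with
  | _ n ih =>
  intro hn
  -- the case of smaller pole order
  have hsmall : ∀ (f : K) (hf : f ∈ L ((n : ℤ) • (Finsupp.single P 1 : Divisor k K))),
      lam R n f = 0 → mono n f hf ∈ Ideal.span (gens R hK hP) := by
    intro f hf h0
    obtain ⟨m, rfl⟩ : ∃ m, n = m + 1 := ⟨n - 1, by omega⟩
    rw [lam_eq_zero_iff R (val_le_of_mem hf)] at h0
    have hf' : f ∈ L ((m : ℤ) • (Finsupp.single P 1 : Divisor k K)) := by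
      have := (mem_L_pred_iff hf).mpr h0
      convert this using 2
      push_cast; ring_nf
    have h1 := mono_pred_mul_tzero (P := P) hf'
    have h2 : mono (m + 1) f hf = mono m f hf' * tzero := h1
    rw [h2]
    exact Ideal.mul_mem_left _ _ (Ideal.subset_span (Set.mem_insert _ _))
  intro f hf
  by_cases h0 : lam R n f = 0
  · exact hsmall f hf h0
  have hnH : n ∈ poleOrders P := (mem_poleOrders_iff R hK hP n).mpr ⟨f, hf, h0⟩
  -- reduce to a chosen function `g` with leading coefficient one
  have hred : ∀ (g : K) (hg : g ∈ L ((n : ℤ) • (Finsupp.single P 1 : Divisor k K))),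
      lam R n g = 1 → mono n g hg ∈ Ideal.span (gens R hK hP) →
      mono n f hf ∈ Ideal.span (gens R hK hP) := by
    intro g hg hg1 hmem
    set c := lam R n f with hc
    have hdiff : f - c • g ∈ L ((n : ℤ) • (Finsupp.single P 1 : Divisor k K)) :=
      sub_mem hf (Submodule.smul_mem _ c hg)
    have hlam : lam R n (f - c • g) = 0 := by
      have h1 : f = (f - c • g) + c • g := (sub_add_cancel f (c • g)).symm
      have h2 := lam_add R (val_le_of_mem hdiff) (val_le_of_mem (Submodule.smul_mem _ c hg))
      rw [← h1, lam_smul R c (val_le_of_mem hg), hg1, mul_one, ← hc] at h2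
      exact add_eq_right.mp h2.symm
    have h3 : mono n f hf = mono n (f - c • g) hdiff + c • mono n g hg := by
      apply Subtype.ext
      change monomial n f = monomial n (f - c • g) + c • monomial n g
      rw [Polynomial.smul_monomial, ← map_add, sub_add_cancel]
    rw [h3]
    refine Ideal.add_mem _ (hsmall _ hdiff hlam) ?_
    rw [Algebra.smul_def]
    exact Ideal.mul_mem_left _ _ hmem
  by_cases hmin : n ∈ minGens (poleOrders P)
  · refine hred (fmon R hK hP n) (fmon_mem R hK hP n) (lam_fmon R hK hP hnH) ?_
    exact Ideal.subset_span (Set.mem_insert_of_mem _ ⟨n, hmin, rfl⟩)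
  · have hn0 : n ≠ 0 := by omega
    have hex : ∃ a ∈ poleOrders P, ∃ b ∈ poleOrders P, a ≠ 0 ∧ b ≠ 0 ∧ a + b = n := by
      by_contra hcon
      apply hmin
      refine ⟨hnH, hn0, fun a ha b hb ha0 hb0 hab => hcon ⟨a, ha, b, hb, ha0, hb0, hab⟩⟩
    obtain ⟨a, ha, b, hb, ha0, hb0, rfl⟩ := hex
    have hprod : fmon R hK hP a * fmon R hK hP b ∈
        L (((a + b : ℕ) : ℤ) • (Finsupp.single P 1 : Divisor k K)) := by
      have := mul_mem_L (fmon_mem R hK hP a) (fmon_mem R hK hP b)
      rwa [← add_smul, ← Nat.cast_add] at this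
    refine hred _ hprod ?_ ?_
    · rw [lam_mul R (val_le_of_mem (fmon_mem R hK hP a)) (val_le_of_mem (fmon_mem R hK hP b)),
        lam_fmon R hK hP ha, lam_fmon R hK hP hb, one_mul]
    · rw [mono_mul a b _ _ (fmon_mem R hK hP a) (fmon_mem R hK hP b)]
      exact Ideal.mul_mem_right _ _
        (ih a (by omega) (by omega) _ (fmon_mem R hK hP a))

end Gen

section Emb

variable (hK : IsFunctionField k K) (hP : P.deg = 1)

/-- the irrelevant ideal of the section ring -/
noncomputable abbrev Iplus (P : Place k K) : Ideal ↥(sectRing (Finsupp.single P 1 : Divisor k K)) :=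
  RingHom.ker (Polynomial.constantCoeff.comp
    (sectRing (Finsupp.single P 1 : Divisor k K)).val.toRingHom)

theorem mem_Iplus (p : ↥(sectRing (Finsupp.single P 1 : Divisor k K))) :
    p ∈ Iplus P ↔ (p : K[X]).coeff 0 = 0 := by
  rw [RingHom.mem_ker]
  rfl

include hK hP

theorem span_gens : Ideal.span (gens R hK hP) = Iplus P := by
  classical
  apply le_antisymm
  · rw [Ideal.span_le]
    rintro x (rfl | ⟨n, hn, rfl⟩)
    · rw [SetLike.mem_coe, mem_Iplus]
      change (monomial 1 (1 : K)).coeff 0 = 0
      rw [coeff_monomial, if_neg (by norm_num)]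
    · rw [SetLike.mem_coe, mem_Iplus]
      change (monomial n _).coeff 0 = 0
      rw [coeff_monomial, if_neg hn.2.1]
  · intro p hp
    rw [mem_Iplus] at hp
    have hsum : p = ∑ n ∈ (p : K[X]).support, mono n ((p : K[X]).coeff n) (p.2 n) := by
      apply Subtype.ext
      rw [AddSubmonoidClass.coe_finsetSum]
      exact (p : K[X]).as_sum_support
    rw [hsum]
    refine Ideal.sum_mem _ fun n hn => ?_
    rw [mem_support_iff] at hn
    have hn1 : 1 ≤ n := by
      rcases Nat.eq_zero_or_pos n with h | h
      · subst h; exact absurd hp hn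
      · exact h
    exact mono_mem_span R hK hP n hn1 _ _

omit hP in
theorem const_of_mem [IsAlgClosed k] (hg : 1 ≤ genus k K) {a : K}
    (ha : a ∈ L (((1 : ℕ) : ℤ) • (Finsupp.single P 1 : Divisor k K))) :
    ∃ c : k, a = algebraMap k K c := by
  have hone := one_mem_L_one (k := k) (P := P)
  rw [Nat.cast_one, one_smul] at ha hone
  have h1 : ell (Finsupp.single P 1 : Divisor k K) = 1 :=
    ell_single_one_of_pos_genus hK (by omega) P
  have hne : (⟨1, hone⟩ : L (Finsupp.single P 1 : Divisor k K)) ≠ 0 := by
    intro h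
    have := congrArg Subtype.val h
    exact one_ne_zero this
  obtain ⟨c, hc⟩ := (finrank_eq_one_iff_of_nonzero' _ hne).mp h1 ⟨a, ha⟩
  refine ⟨c, ?_⟩
  have := congrArg Subtype.val hc
  simp only [Submodule.coe_smul] at this
  rw [← this, Algebra.smul_def, mul_one]

omit hP in
theorem one_notMem_poleOrders [IsAlgClosed k] (hg : 1 ≤ genus k K) : 1 ∉ poleOrders P := by
  intro h
  have h' : ell (((1 : ℕ) : ℤ) • (Finsupp.single P 1 : Divisor k K)) =
      ell ((((1 : ℕ) : ℤ) - 1) • (Finsupp.single P 1 : Divisor k K)) + 1 := h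
  rw [Nat.cast_one, one_smul, sub_self, zero_smul, ell_zero hK,
    ell_single_one_of_pos_genus hK (by omega) P] at h'
  omega

include R in
theorem spanFinrank_le [IsAlgClosed k] (hg : 1 ≤ genus k K) :
    (Iplus P).spanFinrank ≤ Set.ncard (minGens (poleOrders P)) + 1 := by
  have hfin := finite_minGens hK hP hg
  have hgfin : (gens R hK hP).Finite := (hfin.image _).insert _
  rw [← span_gens R hK hP]
  refine (Submodule.spanFinrank_span_le_ncard_of_finite hgfin).trans ?_
  unfold gens
  refine (Set.ncard_insert_le _ _).trans ?_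
  exact Nat.succ_le_succ (Set.ncard_image_le hfin)

omit hP in
theorem val_coeff_one_le [IsAlgClosed k] (hg : 1 ≤ genus k K)
    (p : ↥(sectRing (Finsupp.single P 1 : Divisor k K))) :
    P.1 ((p : K[X]).coeff 1) ≤ exp ((0 : ℕ) : ℤ) := by
  obtain ⟨c, hc⟩ := const_of_mem hK hg (p.2 1)
  rw [hc, Nat.cast_zero, exp_zero]
  exact P.2.1 c

end Emb

section Lower

variable (hK : IsFunctionField k K) (hP : P.deg = 1) [IsAlgClosed k] (hg : 1 ≤ genus k K)

/-- the leading-coefficient functionals in the degrees of the minimal generators, together with the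
functional in degree one -/
noncomputable def Theta : ↥(sectRing (Finsupp.single P 1 : Divisor k K)) →ₗ[k]
    (Option ↥(minGens (poleOrders P)) → k) where
  toFun p := fun i => Option.elim i (lam R 0 ((p : K[X]).coeff 1)) (fun n => (psi R p).coeff n.1)
  map_add' p q := by
    funext i
    cases i with
    | none =>
      change lam R 0 ((p.1 + q.1).coeff 1) = lam R 0 (p.1.coeff 1) + lam R 0 (q.1.coeff 1)
      rw [coeff_add]
      exact lam_add R (val_coeff_one_le hK hg p) (val_coeff_one_le hK hg q)
    | some n =>
      change (psi R (p + q)).coeff n.1 = (psi R p).coeff n.1 + (psi R q).coeff n.1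
      rw [map_add, coeff_add]
  map_smul' c p := by
    funext i
    cases i with
    | none =>
      change lam R 0 ((c • p.1).coeff 1) = c * lam R 0 (p.1.coeff 1)
      rw [coeff_smul]
      exact lam_smul R c (val_coeff_one_le hK hg p)
    | some n =>
      change (psi R (c • p)).coeff n.1 = c * (psi R p).coeff n.1
      rw [map_smul, coeff_smul, smul_eq_mul]

theorem Theta_none (p : ↥(sectRing (Finsupp.single P 1 : Divisor k K))) :
    Theta R hK hg p none = lam R 0 ((p : K[X]).coeff 1) := rfl

theorem Theta_some (p : ↥(sectRing (Finsupp.single P 1 : Divisor k K)))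
    (n : ↥(minGens (poleOrders P))) :
    Theta R hK hg p (some n) = (psi R p).coeff n.1 := rfl

include hP in
theorem Theta_mul (r x : ↥(sectRing (Finsupp.single P 1 : Divisor k K))) (hx : x ∈ Iplus P) :
    Theta R hK hg (r * x) = (psi R r).coeff 0 • Theta R hK hg x := by
  classical
  rw [mem_Iplus] at hx
  funext i
  cases i with
  | none =>
    rw [Pi.smul_apply, Theta_none, Theta_none, smul_eq_mul, coeff_psi]
    change lam R 0 ((r.1 * x.1).coeff 1) = _
    rw [mul_coeff_one, hx, mul_zero, add_zero]
    exact lam_mul R (i := 0) (j := 0) (coeff_val_le r 0) (val_coeff_one_le hK hg x)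
  | some n =>
    rw [Pi.smul_apply, Theta_some, Theta_some, smul_eq_mul, map_mul, coeff_mul]
    rw [Finset.sum_eq_single (0, n.1)]
    · rintro ⟨i, j⟩ hij hne
      have hsum : i + j = n.1 := Finset.HasAntidiagonal.mem_antidiagonal.mp hij
      by_contra hcon
      have hi : (psi R r).coeff i ≠ 0 := left_ne_zero_of_mul hcon
      have hj : (psi R x).coeff j ≠ 0 := right_ne_zero_of_mul hcon
      rw [coeff_psi] at hi hj
      have hj0 : j ≠ 0 := by
        rintro rfl
        apply hj
        rw [hx]
        exact lam_zero_right R 0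
      have hi0 : i ≠ 0 := by
        rintro rfl
        apply hne
        rw [zero_add] at hsum
        rw [hsum]
      have hiH : i ∈ poleOrders P := (mem_poleOrders_iff R hK hP i).mpr ⟨_, r.2 i, hi⟩
      have hjH : j ∈ poleOrders P := (mem_poleOrders_iff R hK hP j).mpr ⟨_, x.2 j, hj⟩
      exact n.2.2.2 i hiH j hjH hi0 hj0 hsum
    · intro h
      exact absurd (Finset.HasAntidiagonal.mem_antidiagonal.mpr (zero_add _)) h

omit [IsAlgClosed k] in
theorem tzero_mem : (tzero : ↥(sectRing (Finsupp.single P 1 : Divisor k K))) ∈ Iplus P := by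
  rw [mem_Iplus]
  change (monomial 1 (1 : K)).coeff 0 = 0
  rw [coeff_monomial, if_neg (by norm_num)]

omit [IsAlgClosed k] in
theorem mono_mem_Iplus {n : ℕ} (hn : n ≠ 0) (f : K) (hf) : mono (P := P) n f hf ∈ Iplus P := by
  rw [mem_Iplus]
  change (monomial n f).coeff 0 = 0
  rw [coeff_monomial, if_neg hn]

theorem Theta_tzero : Theta R hK hg tzero = Pi.single none 1 := by
  classical
  funext i
  cases i with
  | none =>
    rw [Theta_none, Pi.single_eq_same]
    change lam R 0 ((monomial 1 (1 : K)).coeff 1) = 1
    rw [coeff_monomial, if_pos rfl]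
    have := lam_algebraMap R (1 : k)
    rwa [map_one] at this
  | some n =>
    rw [Theta_some, Pi.single_eq_of_ne (by simp)]
    have hn1 : n.1 ≠ 1 := by
      intro h
      exact one_notMem_poleOrders hK hg (h ▸ n.2.1)
    change (psi R (mono 1 1 one_mem_L_one)).coeff n.1 = 0
    rw [psi_mono, coeff_monomial, if_neg (Ne.symm hn1)]

theorem Theta_mono (hP : P.deg = 1) (n : ↥(minGens (poleOrders P))) :
    Theta R hK hg (mono n.1 (fmon R hK hP n.1) (fmon_mem R hK hP n.1)) =
      Pi.single (some n) 1 := by
  classical
  have hn1 : n.1 ≠ 1 := by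
    intro h
    exact one_notMem_poleOrders hK hg (h ▸ n.2.1)
  funext i
  cases i with
  | none =>
    rw [Theta_none, Pi.single_eq_of_ne (by simp)]
    change lam R 0 ((monomial n.1 _).coeff 1) = 0
    rw [coeff_monomial, if_neg hn1]
    exact lam_zero_right R 0
  | some m =>
    rw [Theta_some, psi_mono, coeff_monomial, lam_fmon R hK hP n.2.1]
    by_cases hnm : n = m
    · subst hnm
      rw [if_pos rfl, Pi.single_eq_same]
    · rw [if_neg (fun h => hnm (Subtype.ext h)), Pi.single_eq_of_ne]
      intro h
      exact hnm (Option.some_injective _ h).symm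

include R hK hP hg in
theorem le_spanFinrank :
    Set.ncard (minGens (poleOrders P)) + 1 ≤ (Iplus P).spanFinrank := by
  classical
  have hfin := finite_minGens hK hP hg
  letI : Fintype ↥(minGens (poleOrders P)) := hfin.fintype
  have hFG : (Iplus P).FG := by
    rw [← span_gens R hK hP]
    exact ⟨((hfin.image _).insert _).toFinset, by rw [Set.Finite.coe_toFinset]; rfl⟩
  obtain ⟨s, hcard, hspan⟩ := Submodule.FG.exists_span_finset_card_eq_spanFinrank hFG
  rw [← hcard]
  have hmem : ∀ x ∈ Iplus P, Theta R hK hg x ∈
      Submodule.span k ((s.image (Theta R hK hg) : Finset _) : Set (Option ↥(minGens (poleOrders P)) → k)) := by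
    intro x hx
    rw [← hspan] at hx
    induction hx using Submodule.span_induction with
    | mem x hx =>
      exact Submodule.subset_span (Finset.mem_coe.mpr (Finset.mem_image_of_mem _ hx))
    | zero => rw [map_zero]; exact zero_mem _
    | add x y hx hy ihx ihy => rw [map_add]; exact add_mem ihx ihy
    | smul a x hx ih =>
      rw [smul_eq_mul, Theta_mul R hK hP hg a x (hspan ▸ hx)]
      exact Submodule.smul_mem _ _ ih
  have htop : Submodule.span k ((s.image (Theta R hK hg) : Finset _) :
      Set (Option ↥(minGens (poleOrders P)) → k)) = ⊤ := by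
    rw [eq_top_iff, ← (Pi.basisFun k (Option ↥(minGens (poleOrders P)))).span_eq, Submodule.span_le]
    rintro _ ⟨i, rfl⟩
    rw [Pi.basisFun_apply]
    cases i with
    | none =>
      rw [← Theta_tzero R hK hg]
      exact hmem _ tzero_mem
    | some n =>
      rw [← Theta_mono R hK hg hP n]
      exact hmem _ (mono_mem_Iplus n.2.2.1 _ _)
  have h1 := finrank_span_finset_le_card (R := k) (s.image (Theta R hK hg))
  rw [Set.finrank, htop, finrank_top, Module.finrank_fintype_fun_eq_card, Fintype.card_option] at h1
  have h2 : Set.ncard (minGens (poleOrders P)) = Fintype.card ↥(minGens (poleOrders P)) := by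
    rw [Set.ncard_eq_toFinset_card', Set.toFinset_card]
  rw [h2]
  exact h1.trans Finset.card_image_le

include R hK hP hg in
theorem spanFinrank_eq :
    (Iplus P).spanFinrank = Set.ncard (minGens (poleOrders P)) + 1 :=
  le_antisymm (spanFinrank_le R hK hP hg) (le_spanFinrank R hK hP hg)

end Lower

end Groth.Agent.Helper9.GrSect
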